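import Mathlib
import Cfsg.Agent.Lib.WAb.Frob
import Cfsg.Agent.Lib.SmallSimple.NC

/-!
# Elementary abelian Sylow 2-subgroups of order 16 with inertial index 9
-/

set_option autoImplicit false

namespace CfsgLib.WAb

open Subgroup Cfsg CfsgLib.Char CfsgLib.Block CfsgLib.Blk CfsgLib.Cover CfsgLib.Abel2
  CfsgLib.Comp CfsgLib.Core CfsgLib.Tech
open CfsgLib.BrPair (Cz Nz Ce)

universe u

section Count

variable {P : Type*} [Group P] [Finite P] {E : Subgroup (MulAut P)}

theorem card_fixedBy_cases (h16 : Nat.card P = 16) (h9 : Nat.card E = 9) {g : E} (hg : g ≠ 1) :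
    Nat.card (MulAction.fixedBy P g) = 1 ∨ Nat.card (MulAction.fixedBy P g) = 4 := by
  have : Fact (Nat.Prime 3) := ⟨Nat.prime_three⟩
  have hE : IsPGroup 3 E := IsPGroup.of_card (n := 2) h9
  have h1 := (hE.to_subgroup (zpowers g)).card_modEq_card_fixedPoints P
  have h2 : MulAction.fixedPoints (zpowers g) P = MulAction.fixedBy P g := by
    ext x
    refine ⟨fun h => h ⟨g, mem_zpowers g⟩, fun h y => ?_⟩
    obtain ⟨_, k, rfl⟩ := y
    exact MulAction.fixedBy_subset_fixedBy_zpow P g k h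
  let F : Subgroup P := (g : MulAut P).toMonoidHom.eqLocus (MonoidHom.id P)
  have h3 : Nat.card (MulAction.fixedBy P g) = Nat.card F := rfl
  have h4 : F ≠ ⊤ := fun e => hg (Subtype.ext (MulEquiv.ext fun x => (e ▸ mem_top x : x ∈ F)))
  have h5 := card_lt_of_ne_top h4
  have h6 := card_subgroup_dvd_card F
  rw [h2, h3, h16] at h1
  rw [h16] at h5 h6
  rw [h3]
  generalize Nat.card F = n at *
  unfold Nat.ModEq at h1
  interval_cases n <;> simp at h1 h6 ⊢

theorem count_nine (h16 : Nat.card P = 16) (h9 : Nat.card E = 9) [Fintype P] [DecidableEq P] :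
    (∀ u : P, u ≠ 1 → Nat.card (MulAction.stabilizer E u) = 1 ∨
      Nat.card (MulAction.stabilizer E u) = 3) ∧
    ∑ u ∈ Finset.univ.erase (1 : P),
      Nat.card (MulAction.stabilizer E u) * Nat.card (MulAction.stabilizer E u) = 63 := by
  classical
  have := Fintype.ofFinite E
  have h1 : 9 ∣ ∑ g : E, Nat.card (MulAction.fixedBy P g) := by
    have := MulAction.sum_card_fixedBy_eq_card_orbits_mul_card_group E P
    simp only [← Nat.card_eq_fintype_card, h9] at this
    exact Dvd.intro_left _ this.symm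
  have h2 : ∑ g : E, Nat.card (MulAction.fixedBy P g) =
      ∑ u : P, Nat.card (MulAction.stabilizer E u) := by
    have e1 : ∀ g : E, Nat.card (MulAction.fixedBy P g) = ∑ u : P, if g • u = u then 1 else 0 :=
      fun g => by
        rw [← Finset.card_filter, Nat.card_eq_fintype_card, Fintype.card_subtype]; rfl
    have e2 : ∀ u : P, Nat.card (MulAction.stabilizer E u) = ∑ g : E, if g • u = u then 1 else 0 :=
      fun u => by
        rw [← Finset.card_filter, Nat.card_eq_fintype_card, Fintype.card_subtype]; rfl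
    simp only [e1, e2]
    exact Finset.sum_comm
  have hE8 : (Finset.univ.erase (1 : E)).card = 8 := by
    rw [Finset.card_erase_of_mem (Finset.mem_univ _), Finset.card_univ, ← Nat.card_eq_fintype_card,
      h9]
  have hP15 : (Finset.univ.erase (1 : P)).card = 15 := by
    rw [Finset.card_erase_of_mem (Finset.mem_univ _), Finset.card_univ, ← Nat.card_eq_fintype_card,
      h16]
  have h3 : ∑ g : E, Nat.card (MulAction.fixedBy P g) =
      16 + ∑ g ∈ Finset.univ.erase (1 : E), Nat.card (MulAction.fixedBy P g) := by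
    rw [← Finset.add_sum_erase _ _ (Finset.mem_univ 1), MulAction.fixedBy_one_eq_univ,
      Nat.card_univ, h16]
  have h4 : ∀ u : P, u ≠ 1 → Nat.card (MulAction.stabilizer E u) = 1 ∨
      Nat.card (MulAction.stabilizer E u) = 3 := by
    intro u hu
    have e1 := card_subgroup_dvd_card (MulAction.stabilizer E u)
    rw [h9] at e1
    have e2 : Nat.card (MulAction.stabilizer E u) ≠ 9 := by
      intro e2
      have e3 : MulAction.stabilizer E u = ⊤ := eq_top_of_card_eq _ (e2.trans h9.symm)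
      have e4 : ∀ g ∈ Finset.univ.erase (1 : E), Nat.card (MulAction.fixedBy P g) = 4 := by
        intro g hg
        refine (card_fixedBy_cases h16 h9 (Finset.mem_erase.1 hg).1).resolve_left fun e5 => hu ?_
        have := (Nat.card_eq_one_iff_unique.1 e5).1
        exact congrArg Subtype.val (this.elim (⟨u, (e3 ▸ mem_top g : g ∈ _)⟩ :
          MulAction.fixedBy P g) ⟨1, smul_one g⟩)
      rw [h3, Finset.sum_congr rfl e4, Finset.sum_const, hE8] at h1
      simp at h1
    have := Nat.le_of_dvd (by norm_num) e1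
    generalize Nat.card (MulAction.stabilizer E u) = n at *
    interval_cases n <;> simp at e1 e2 ⊢
  refine ⟨h4, ?_⟩
  have h5 : ∑ g ∈ Finset.univ.erase (1 : E), Nat.card (MulAction.fixedBy P g) ≤ 8 * 4 := by
    rw [← hE8, ← smul_eq_mul]
    refine Finset.sum_le_card_nsmul _ _ _ fun g hg => ?_
    rcases card_fixedBy_cases h16 h9 (Finset.mem_erase.1 hg).1 with e | e <;> omega
  let a : P → ℕ := fun u => if Nat.card (MulAction.stabilizer E u) = 3 then 1 else 0
  have h6 : ∀ u ∈ Finset.univ.erase (1 : P),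
      Nat.card (MulAction.stabilizer E u) = 1 + 2 * a u := fun u hu => by
    rcases h4 u (Finset.mem_erase.1 hu).1 with e | e <;> simp only [a, e] <;> norm_num
  have h7 : ∀ u ∈ Finset.univ.erase (1 : P), Nat.card (MulAction.stabilizer E u) *
      Nat.card (MulAction.stabilizer E u) = 1 + 8 * a u := fun u hu => by
    rcases h4 u (Finset.mem_erase.1 hu).1 with e | e <;> simp only [a, e] <;> norm_num
  have h8 : MulAction.stabilizer E (1 : P) = ⊤ := eq_top_iff.2 fun g _ => smul_one g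
  rw [h3, ← Finset.add_sum_erase _ _ (Finset.mem_univ 1), h8, card_top, h9,
    Finset.sum_congr rfl h6] at h2
  rw [h3] at h1
  rw [Finset.sum_congr rfl h7]
  rw [Finset.sum_add_distrib, Finset.sum_const, hP15, ← Finset.mul_sum] at h2 ⊢
  simp only [smul_eq_mul] at h2 ⊢
  omega

end Count

section General

variable {G : Type*} [Group G] [Finite G] {M : Ideal AlgInt}

omit [Finite G] in
theorem card_range_eq_ee (P : Subgroup G) : Nat.card P.normalizerMonoidHom.range = ee P := by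
  rw [← index_ker, normalizerMonoidHom_ker]; rfl

theorem card_stabilizer_eq_eu (P : Subgroup G) (u : P) :
    Nat.card (MulAction.stabilizer P.normalizerMonoidHom.range u) = eu P u := by
  have h1 : (MulAction.stabilizer P.normalizerMonoidHom.range u).map (Subgroup.subtype _) =
      ((Ce (u : G)).subgroupOf (Nz P)).map P.normalizerMonoidHom := by
    ext a
    constructor
    · rintro ⟨⟨_, n, rfl⟩, h, rfl⟩
      exact ⟨n, BrPair.mem_Ce.2 (congrArg Subtype.val h), rfl⟩
    · rintro ⟨n, h, rfl⟩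
      exact ⟨⟨_, n, rfl⟩, Subtype.ext (BrPair.mem_Ce.1 h), rfl⟩
  rw [← card_map_subtype, h1, ← relIndex_ker, normalizerMonoidHom_ker,
    ← inf_subgroupOf_left (Ce (u : G)), relIndex_subgroupOf inf_le_left]

theorem card_inf_Ce {P : Subgroup G} (h16 : Nat.card P = 16) (h9 : ee P = 9) {n : G}
    (hn : n ∈ Nz P) (hn' : n ∉ Cz P) :
    Nat.card ↥(P ⊓ Ce n) = 1 ∨ Nat.card ↥(P ⊓ Ce n) = 4 := by
  have := card_fixedBy_cases h16 ((card_range_eq_ee P).trans h9)
    (g := ⟨_, ⟨n, hn⟩, rfl⟩) (fun e => hn' (by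
      have : (⟨n, hn⟩ : Nz P) ∈ P.normalizerMonoidHom.ker := congrArg Subtype.val e
      rwa [normalizerMonoidHom_ker] at this))
  have e : MulAction.fixedBy P (⟨_, ⟨n, hn⟩, rfl⟩ : P.normalizerMonoidHom.range) =
      ((Ce n).subgroupOf P : Set P) := by
    ext x
    rw [SetLike.mem_coe, mem_subgroupOf, mem_centralizer_singleton_iff, MulAction.mem_fixedBy,
      Subtype.ext_iff]
    change n * x * n⁻¹ = x ↔ _
    rw [mul_inv_eq_iff_eq_mul, eq_comm]
  rw [e] at this
  rw [inf_comm, ← card_subgroupOf]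
  exact this

omit [Finite G] in
theorem pow_ee_mem {P : Subgroup G} {n : G} (hn : n ∈ Nz P) : n ^ ee P ∈ Cz P := by
  have : (⟨n, hn⟩ : Nz P) ^ ee P ∈ P.normalizerMonoidHom.ker := by
    rw [← card_range_eq_ee, ← index_ker]
    exact pow_index_mem _ _
  rwa [normalizerMonoidHom_ker] at this

omit [Finite G] in
theorem ee_dvd_six {Z : Subgroup G} (h4 : Nat.card Z = 4) : ee Z ∣ 6 := by
  have : Finite Z := Nat.finite_of_card_ne_zero (by omega)
  have := SmallSimple.card_mulAut_dvd_factorial Z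
  rw [h4] at this
  exact (SmallSimple.relIndex_centralizer_dvd_card_mulAut Z).trans this

/-- The subdirect product reduction. -/
theorem kk_emb {p : ℕ} [Fact p.Prime] (hM : IsPModular p M) (P : Sylow p G) (K Z : Subgroup G)
    [hK : K.Normal] [hZ : Z.Normal] (h1 : K ⊓ Z = ⊥) (h2 : ¬ p ∣ (K ⊔ Z).index)
    (h3 : ∀ g x : G, g * x * g⁻¹ * x⁻¹ ∈ K ⊔ Z)
    (h4 : ∀ g, ∃ k ∈ K, ∀ x ∈ (P : Subgroup G), k⁻¹ * g * x * (k⁻¹ * g)⁻¹ * x⁻¹ ∈ Z) :
    kk M G = kk M (G ⧸ K) * kk M (G ⧸ Z) := by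
  let φ := (QuotientGroup.mk' K).prod (QuotientGroup.mk' Z)
  have hφ : Function.Injective φ := by
    rw [← MonoidHom.ker_eq_bot_iff, MonoidHom.ker_prod, QuotientGroup.ker_mk',
      QuotientGroup.ker_mk', h1]
  have hn : φ.range.Normal := by
    refine ⟨?_⟩
    rintro _ ⟨x, rfl⟩ ⟨g, h⟩
    obtain ⟨g, rfl⟩ := QuotientGroup.mk'_surjective K g
    obtain ⟨h, rfl⟩ := QuotientGroup.mk'_surjective Z h
    obtain ⟨k₁, hk₁, z₁, hz₁, e₁⟩ := (mem_sup_of_le_normalizer_left le_normalizer_of_normal).1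
      (h3 g x)
    obtain ⟨k₂, hk₂, z₂, hz₂, e₂⟩ := (mem_sup_of_le_normalizer_left le_normalizer_of_normal).1
      (h3 h x)
    refine ⟨z₁ * k₂ * x, Prod.ext ?_ ?_⟩
    · have : g * x * g⁻¹ = k₁ * z₁ * x := by rw [e₁]; group
      change QuotientGroup.mk' K _ = QuotientGroup.mk' K g * QuotientGroup.mk' K x *
        (QuotientGroup.mk' K g)⁻¹
      rw [← map_inv, ← map_mul, ← map_mul, this]
      simp [(QuotientGroup.eq_one_iff _).2 hk₁, (QuotientGroup.eq_one_iff _).2 hk₂]
    · have : h * x * h⁻¹ = k₂ * z₂ * x := by rw [e₂]; group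
      change QuotientGroup.mk' Z _ = QuotientGroup.mk' Z h * QuotientGroup.mk' Z x *
        (QuotientGroup.mk' Z h)⁻¹
      rw [← map_inv, ← map_mul, ← map_mul, this]
      simp [(QuotientGroup.eq_one_iff _).2 hz₁, (QuotientGroup.eq_one_iff _).2 hz₂]
  have hi : φ.range.index = (K ⊔ Z).index := by
    have e1 := φ.range.index_mul_card
    rw [← Nat.card_congr (MonoidHom.ofInjective hφ).toEquiv, Nat.card_prod] at e1
    have e2 := (K ⊔ Z).index_mul_card
    rw [card_sup_of_le_normalizer_of_disjoint le_normalizer_of_normal h1] at e2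
    have e3 := K.index_mul_card
    have e4 := Z.index_mul_card
    change _ = K.index * Z.index at e1
    have e5 : 0 < Nat.card G * (Nat.card K * Nat.card Z) :=
      Nat.mul_pos Nat.card_pos (Nat.mul_pos Nat.card_pos Nat.card_pos)
    apply Nat.eq_of_mul_eq_mul_right e5
    calc φ.range.index * (Nat.card G * (Nat.card K * Nat.card Z))
        = (K.index * Nat.card K) * (Z.index * Nat.card Z) := by rw [← mul_assoc, e1]; ring
      _ = _ := by rw [e3, e4]; nth_rewrite 1 [← e2]; ring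
  let Q : Sylow p ((G ⧸ K) × (G ⧸ Z)) := (P.isPGroup'.map φ).toSylow (by
    rw [index_map_of_injective _ hφ, hi]
    exact fun h => ((Nat.Prime.dvd_mul Fact.out).1 h).elim P.not_dvd_index h2)
  rw [← kk_prod hM, kk_dade hM Q (N := φ.range) (hi ▸ h2), kk_congr hM (MonoidHom.ofInjective hφ)]
  rw [eq_top_iff]
  rintro ⟨g, h⟩ -
  obtain ⟨g, rfl⟩ := QuotientGroup.mk'_surjective K g
  obtain ⟨h, rfl⟩ := QuotientGroup.mk'_surjective Z h
  obtain ⟨k, hk, e⟩ := h4 (g⁻¹ * h)
  have : (QuotientGroup.mk' K g, QuotientGroup.mk' Z h) =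
      φ (g * k) * (1, QuotientGroup.mk' Z (k⁻¹ * (g⁻¹ * h))) := by
    refine Prod.ext ?_ ?_
    · simp [φ, (QuotientGroup.eq_one_iff _).2 hk]
    · simp [φ, mul_assoc]
  rw [this]
  refine mul_mem_sup ⟨_, rfl⟩ ?_
  rintro _ ⟨x, hx, rfl⟩
  refine Prod.ext (by simp) ?_
  have := (QuotientGroup.eq_one_iff _).2 (e x hx)
  change QuotientGroup.mk' Z _ = 1 at this
  rw [map_mul, map_mul, map_inv, map_inv, mul_inv_eq_one, mul_inv_eq_iff_eq_mul, map_mul] at this
  exact this.symm

theorem kk_quot_four (hM : IsPModular 2 M) (P : Sylow 2 G) (hel : ∀ x ∈ (P : Subgroup G), x * x = 1)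
    (h16 : Nat.card (P : Subgroup G) = 16) (K : Subgroup G) [K.Normal]
    (h4 : Nat.card ↥((P : Subgroup G) ⊓ K) = 4) : kk M (G ⧸ K) = 4 := by
  refine (kk_ll_klein hM (P.mapSurjective (QuotientGroup.mk'_surjective K))
    (isKleinFour_of_card ?_ ?_)).1
  · have := card_map_mk'_mul_card_inf (P : Subgroup G) K
    rw [h4, h16] at this
    rw [Sylow.coe_mapSurjective]
    omega
  · rintro _ ⟨x, hx, rfl⟩
    rw [← map_mul, hel x hx, map_one]

theorem res_inf {p : ℕ} [Fact p.Prime] (P : Sylow p G) (hab : IsMulCommutative P)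
    {H : Subgroup G} (hPH : (P : Subgroup G) ≤ H) :
    (pResidual p H).map H.subtype ⊓ P = ⁅(P : Subgroup G), Nz (P : Subgroup G) ⊓ H⁆ ∧
      (pResidual p H).map H.subtype ⊔ P = H := by
  have hab' : IsMulCommutative (P.subtype hPH) := by
    change IsMulCommutative ((P : Subgroup G).subgroupOf H)
    infer_instance
  have h1 := congrArg (map H.subtype) (Transfer.pResidual_inf_eq_of_abelian_sylow _ hab')
  have h2 := congrArg (map H.subtype) (Transfer.pResidual_sup_sylow (P.subtype hPH))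
  rw [map_inf_eq _ _ _ H.subtype_injective, map_commutator, Sylow.coe_subtype,
    ← subgroupOf_normalizer_eq hPH, subgroupOf_map_subtype, subgroupOf_map_subtype,
    inf_eq_left.2 hPH] at h1
  rw [Subgroup.map_sup, Sylow.coe_subtype, subgroupOf_map_subtype, inf_eq_left.2 hPH,
    ← MonoidHom.range_eq_map, range_subtype] at h2
  exact ⟨h1, h2⟩

theorem le_of_relIndex_dvd_prime {D H N : Subgroup G} {r : ℕ} (hr : r.Prime)
    (h : D.relIndex N ∣ r) (hDH : D ≤ H) {x : G} (hx : x ∈ H) (hxN : x ∈ N) (hxD : x ∉ D) :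
    N ≤ H := by
  have h1 := relIndex_mul_relIndex (D ⊓ N) (H ⊓ N) N (inf_le_inf_right _ hDH) inf_le_right
  rw [inf_relIndex_right D, inf_relIndex_right H] at h1
  rcases (Nat.dvd_prime hr).1 ((Dvd.intro_left _ h1).trans h) with h2 | h2
  · exact relIndex_eq_one.1 h2
  · rw [← h1, h2] at h
    have := relIndex_eq_one.1 (Nat.eq_one_of_dvd_one
      ((Nat.mul_dvd_mul_iff_right hr.pos).1 (by rwa [one_mul])))
    exact absurd (this ⟨hx, hxN⟩).1 hxD

theorem relIndex_Cz_dvd_three {P V : Subgroup G} (h9 : ee P = 9) (hV : V ≤ P)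
    (h4 : Nat.card V = 4) (hN : Nz P ≤ Nz V) : (Cz V).relIndex (Nz P) ∣ 3 := by
  have h1 : (Cz V).relIndex (Nz P) ∣ 9 := h9 ▸ relIndex_dvd_of_le_left _ (centralizer_le hV)
  have h2 : (Cz V).relIndex (Nz P) ∣ 6 := by
    refine Dvd.dvd.trans ?_ (ee_dvd_six h4)
    rw [← relIndex_subgroupOf hN]
    exact relIndex_dvd_index_of_normal _ _
  exact Nat.dvd_gcd h1 h2

theorem not_cent {P : Subgroup G} (h16 : Nat.card P = 16) (h9 : ee P = 9) {u : G} (hu : u ∈ P)
    (h1 : u ≠ 1) : eu P u = 1 ∨ eu P u = 3 := by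
  classical
  have := Fintype.ofFinite P
  have := (count_nine h16 ((card_range_eq_ee P).trans h9)).1 ⟨u, hu⟩
    (fun e => h1 (congrArg Subtype.val e))
  rwa [card_stabilizer_eq_eu] at this

theorem kk_nine_of_normal (hM : IsPModular 2 M) (P : Sylow 2 G)
    (hel : ∀ x ∈ (P : Subgroup G), x * x = 1) (h16 : Nat.card (P : Subgroup G) = 16)
    (h9 : ee (P : Subgroup G) = 9) (Z : Subgroup G) [hZ : Z.Normal] (hZP : Z ≤ P)
    (h4 : Nat.card Z = 4) : kk M G = 16 := by
  have hc : ∀ x ∈ (P : Subgroup G), ∀ y ∈ (P : Subgroup G), x * y = y * x := fun x hx y hy => by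
    have e := hel _ (mul_mem hx hy)
    calc x * y = x * (x * y * (x * y)) * y * (y * y)⁻¹ * (y * y) := by rw [e]; group
      _ = (x * x) * (y * x) * (y * y) := by
        simp only [mul_assoc, mul_inv_rev, inv_mul_cancel_left, mul_inv_cancel_left]
      _ = y * x := by rw [hel x hx, hel y hy]; group
  have hab : IsMulCommutative P := isMulCommutative_iff_forall.2 hc
  have hNZ : Nz Z = ⊤ := normalizer_eq_top Z
  have hPH : (P : Subgroup G) ≤ Cz Z := fun x hx y hy => hc y (hZP hy) x hx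
  have hH : (Cz Z).Normal := normal_centralizer
  have hF := frattini_sup P (Cz Z) hPH
  have hi : (Cz Z).index = (Cz Z).relIndex (Nz (P : Subgroup G)) := by
    rw [← relIndex_top_right, ← hF, relIndex_sup_left]
  obtain ⟨z, hz, hz1, -⟩ := exists_ne_ne h4.ge 1 1
  have h3 : (Cz Z).index = 3 := by
    have := relIndex_Cz_dvd_three h9 hZP h4 (hNZ ▸ le_top)
    rw [← hi] at this
    refine ((Nat.dvd_prime Nat.prime_three).1 this).resolve_left fun e => ?_
    have e2 := not_cent h16 h9 (hZP hz) hz1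
    rw [eu, inf_eq_left.2 fun g _ => mem_centralizer_singleton_iff.2
      ((index_eq_one.1 e ▸ mem_top g : g ∈ Cz Z) z hz).symm, ← ee, h9] at e2
    omega
  -- an element of `N ∩ C(Z)` outside `C(P)`
  obtain ⟨n, hn, hnC⟩ : ∃ n ∈ Nz (P : Subgroup G) ⊓ Cz Z, n ∉ Cz (P : Subgroup G) := by
    by_contra! h
    have := relIndex_dvd_of_le_left (Nz (P : Subgroup G)) (show _ ≤ _ from h)
    rw [inf_relIndex_left, ← hi, h3, ← ee, h9] at this
    omega
  have h5 : (P : Subgroup G) ⊓ centralizer ((Nz (P : Subgroup G) ⊓ Cz Z : Subgroup G) : Set G)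
      = Z := by
    have e1 : Z ≤ (P : Subgroup G) ⊓
        centralizer ((Nz (P : Subgroup G) ⊓ Cz Z : Subgroup G) : Set G) :=
      le_inf hZP fun x hx y hy => (hy.2 x hx).symm
    have e2 : (P : Subgroup G) ⊓ centralizer ((Nz (P : Subgroup G) ⊓ Cz Z : Subgroup G) : Set G)
        ≤ (P : Subgroup G) ⊓ Ce n := inf_le_inf_left _ (centralizer_le (Set.singleton_subset_iff.2 hn))
    have e3 := card_le_of_le e2
    refine (eq_of_le_of_card_le e1 ?_).symm
    rcases card_inf_Ce h16 h9 hn.1 hnC with e | e <;> omega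
  obtain ⟨h6, h7⟩ := res_inf P hab hPH
  have hK := Transfer.map_pResidual_normal (p := 2) (Cz Z)
  set K := (pResidual 2 (Cz Z)).map (Cz Z).subtype with hKdef
  have hPN : (P : Subgroup G) ≤ Nz (P : Subgroup G) ⊓ Cz Z := le_inf le_normalizer hPH
  have h8 := Transfer.commutator_inf_centralizer_of_abelian_hall hab hPN inf_le_left
    (Transfer.coprime_card_relIndex_sylow P hPN)
  have h10 := Transfer.commutator_sup_centralizer_of_abelian_hall hab hPN inf_le_left
    (Transfer.coprime_card_relIndex_sylow P hPN)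
  rw [← h6, inf_assoc, h5] at h8
  rw [← h6, h5] at h10
  have h11 : K ⊔ Z = Cz Z := by
    refine le_antisymm (sup_le (map_subtype_le _) (hZP.trans hPH)) ?_
    rw [← h7, ← h10]
    exact sup_le le_sup_left (sup_le_sup_right inf_le_left _)
  have h12 : Nat.card ↥((P : Subgroup G) ⊓ K) = 4 := by
    have := card_sup_of_le_normalizer_of_disjoint (N := Z) (H := K ⊓ P)
      le_normalizer_of_normal (by rw [eq_bot_iff, ← h8]; exact inf_le_inf_right _ inf_le_left)
    rw [h10, h16, h4, inf_comm] at this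
    omega
  have h13 : K ⊔ Cz ((P : Subgroup G) ⊓ K) = ⊤ := by
    obtain ⟨k, hk, y, hy, rfl⟩ := (mem_sup_of_le_normalizer_left le_normalizer_of_normal).1
      (h11 ▸ hn.2 : n ∈ K ⊔ Z)
    have hkN : k ∈ Nz (P : Subgroup G) := by
      simpa using mul_mem (mem_inf.1 hn).1 (inv_mem (le_normalizer (hZP hy)))
    have e1 := le_of_relIndex_dvd_prime Nat.prime_three (relIndex_Cz_dvd_three h9 inf_le_left h12
      (fun g hg => mem_normalizer_of_forall fun x hx =>
        ⟨conj_mem_of_mem_normalizer hg hx.1, hK.conj_mem _ hx.2 g⟩))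
      (le_sup_right : _ ≤ K ⊔ _) (mem_sup_left hk) hkN fun e => hnC (mul_mem ?_
        (le_Cz_of_comm hab (hZP hy)))
    · rw [eq_top_iff, ← hF, ← h11]
      exact sup_le (sup_le le_sup_left
        (le_sup_of_le_right fun x hx y hy => hc y hy.1 x (hZP hx))) e1
    · change k ∈ centralizer ((P : Subgroup G) : Set G)
      rw [← h10, centralizer_sup, inf_comm K]
      exact ⟨e, map_subtype_le _ hk⟩
  rw [kk_emb hM P K Z h8 (by rw [h11, h3]; norm_num) ?_ ?_, kk_quot_four hM P hel h16 K h12,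
    kk_quot_four hM P hel h16 Z (by rw [inf_eq_right.2 hZP, h4])]
  · intro g x
    have : IsMulCommutative (G ⧸ Cz Z) := comm_of_card (Or.inl (h3 ▸ Nat.prime_three :
      (Cz Z).index.Prime))
    rw [h11, ← QuotientGroup.eq_one_iff]
    simp [mul_comm' (g : G ⧸ Cz Z) x]
  · intro g
    obtain ⟨k, hk, c, hc', rfl⟩ := (mem_sup_of_le_normalizer_left le_normalizer_of_normal).1
      (h13 ▸ mem_top g : g ∈ K ⊔ _)
    refine ⟨k, hk, fun x hx => ?_⟩
    obtain ⟨y, hy, v, hv, rfl⟩ := (mem_sup_of_le_normalizer_left le_normalizer_of_normal).1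
      (show x ∈ Z ⊔ K ⊓ P by rwa [sup_comm, h10])
    have e : k⁻¹ * (k * c) * (y * v) * (k⁻¹ * (k * c))⁻¹ * (y * v)⁻¹ = c * y * c⁻¹ * y⁻¹ := by
      have := hc' v ⟨hv.2, hv.1⟩
      calc _ = c * y * (v * c⁻¹) * (y * v)⁻¹ := by group
        _ = c * y * (c⁻¹ * (c * v) * c⁻¹) * (y * v)⁻¹ := by group
        _ = _ := by rw [← this]; group
    rw [e]
    exact mul_mem (hZ.conj_mem _ hy c) (inv_mem hy)

theorem exists_four {P : Subgroup G} (h16 : Nat.card P = 16) (h9 : ee P = 9) :
    ∃ Z ≤ P, Nat.card Z = 4 ∧ Nz P ≤ Nz Z := by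
  classical
  have := Fintype.ofFinite P
  obtain ⟨h1, h2⟩ := count_nine h16 ((card_range_eq_ee P).trans h9)
  simp only [card_stabilizer_eq_eu] at h1 h2
  obtain ⟨u, hu, h3⟩ : ∃ u : P, u ≠ 1 ∧ eu P u ≠ 1 := by
    by_contra! h
    rw [Finset.sum_congr rfl (g := fun _ => 1) fun u hu => by rw [h u (Finset.mem_erase.1 hu).1],
      Finset.sum_const, Finset.card_erase_of_mem (Finset.mem_univ _), Finset.card_univ,
      ← Nat.card_eq_fintype_card, h16] at h2
    simp at h2
  obtain ⟨n, hn, hnC⟩ := not_forall₂.1 (mt relIndex_eq_one.2 h3)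
  have : Fact (Nat.Prime 3) := ⟨Nat.prime_three⟩
  have h4 := commutator_mem_Cz P fun X hX =>
    IsPGroup.isMulCommutative_of_card_eq_prime_sq (p := 3) (hX.trans h9)
  refine ⟨P ⊓ Ce n, inf_le_left, (card_inf_Ce h16 h9 hn.1 hnC).resolve_left fun e => hu ?_,
    fun g hg => mem_normalizer_of_forall fun x hx => ⟨conj_mem_of_mem_normalizer hg hx.1, ?_⟩⟩
  · have : (u : G) ∈ P ⊓ Ce n := ⟨u.2, mem_centralizer_singleton_iff.2
      (mem_centralizer_singleton_iff.1 hn.2).symm⟩
    rw [card_eq_one.1 e, mem_bot] at this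
    exact Subtype.ext this
  · have e1 := h4 n⁻¹ (inv_mem hn.1) g⁻¹ (inv_mem hg) x hx.1
    have e2 := mem_centralizer_singleton_iff.1 hx.2
    refine mem_centralizer_singleton_iff.2 ?_
    calc g * x * g⁻¹ * n = g * x * n * (n⁻¹ * g⁻¹ * n⁻¹⁻¹ * g⁻¹⁻¹) * g⁻¹ := by group
      _ = g * n * (x * (n⁻¹ * g⁻¹ * n⁻¹⁻¹ * g⁻¹⁻¹)) * g⁻¹ := by rw [mul_assoc g, e2]; group
      _ = _ := by rw [e1]; group

theorem kk_two_factors (hM : IsPModular 2 M) (P : Sylow 2 G)
    (hel : ∀ x ∈ (P : Subgroup G), x * x = 1) (h16 : Nat.card (P : Subgroup G) = 16)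
    {K Z : Subgroup G} (hN : (P : Subgroup G) ≤ K ⊔ Z) (h1 : K ⊓ Z = ⊥)
    (hKZ : K ≤ Cz Z) (hK : Nat.card ↥((P : Subgroup G) ⊓ K) = 4)
    (hZ : Nat.card ↥((P : Subgroup G) ⊓ Z) = 4) : kk M ↥(K ⊔ Z) = 16 := by
  have hZK : Z ≤ Cz K := le_centralizer_iff.1 hKZ
  have hK' : (K.subgroupOf (K ⊔ Z)).Normal := (normal_subgroupOf_iff_le_normalizer le_sup_left).2
    (sup_le le_normalizer (hZK.trans (centralizer_le_normalizer _)))
  have hZ' : (Z.subgroupOf (K ⊔ Z)).Normal := (normal_subgroupOf_iff_le_normalizer le_sup_right).2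
    (sup_le (hKZ.trans (centralizer_le_normalizer _)) le_normalizer)
  have h2 : K.subgroupOf (K ⊔ Z) ⊔ Z.subgroupOf (K ⊔ Z) = ⊤ := by
    rw [← subgroupOf_sup le_sup_left le_sup_right, subgroupOf_self]
  have hel' : ∀ x ∈ (P.subtype hN : Subgroup ↥(K ⊔ Z)), x * x = 1 := fun x hx =>
    Subtype.ext (hel x hx)
  have h16' : Nat.card (P.subtype hN : Subgroup ↥(K ⊔ Z)) = 16 := by
    rw [Sylow.coe_subtype, card_subgroupOf_of_le hN, h16]
  have h4 : ∀ X ≤ K ⊔ Z, Nat.card ↥((P.subtype hN : Subgroup ↥(K ⊔ Z)) ⊓ X.subgroupOf (K ⊔ Z)) =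
      Nat.card ↥((P : Subgroup G) ⊓ X) := fun X hX => by
    rw [← card_subgroupOf_of_le (inf_le_right.trans hX)]; rfl
  rw [kk_emb hM (P.subtype hN) (K.subgroupOf (K ⊔ Z)) (Z.subgroupOf (K ⊔ Z))
    (by rw [← bot_subgroupOf, ← h1]; rfl) (by rw [h2, index_top]; norm_num)
    (fun g x => h2 ▸ mem_top _) fun g => ?_, kk_quot_four hM _ hel' h16' _
    ((h4 K le_sup_left).trans hK), kk_quot_four hM _ hel' h16' _ ((h4 Z le_sup_right).trans hZ)]
  obtain ⟨k, hk, z, hz, rfl⟩ := (mem_sup_of_le_normalizer_left le_normalizer_of_normal).1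
    (h2 ▸ mem_top g : g ∈ _ ⊔ _)
  refine ⟨k, hk, fun x _ => ?_⟩
  rw [inv_mul_cancel_left, mul_assoc, mul_assoc, ← mul_assoc x]
  exact mul_mem hz (hZ'.conj_mem _ (inv_mem hz) x)

end General

section Main

variable {G : Type u} [Group G] [Finite G] {M : Ideal AlgInt}

theorem comp_card_four {P : Sylow 2 G} (hab : Ab2 G) (hO : pPrimeCore 2 G = ⊥)
    (h16 : Nat.card (P : Subgroup G) = 16) (h9 : ee (P : Subgroup G) = 9) {L : Subgroup G}
    (hL : IsComponent L) : Nat.card ↥((P : Subgroup G) ⊓ L) = 4 := by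
  have h4 := comp_four_le hab hO hL P
  obtain ⟨v, hv, hv1, -⟩ := exists_ne_ne h4 1 1
  obtain ⟨T, -, hTN, hT⟩ := comp_exists_free hab hO hL P
  have h1 : orb T v = (((P : Subgroup G) ⊓ L : Subgroup G) : Set G) \ {1} :=
    ((orb_mono hT.le_norm v).trans (orb_subset _ hv hv1)).antisymm
      fun w hw => hT.trans v hv hv1 w hw.1 hw.2
  have h2 := ncard_diff_one ((P : Subgroup G) ⊓ L)
  rw [← h1, ncard_orb] at h2
  have h3 : (Ce v).relIndex T ∣ 9 := by
    refine (relIndex_dvd_of_le_left T (Cz_le_Ce hv.1)).trans ?_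
    rw [← h9, ← relIndex_subgroupOf hTN]
    exact relIndex_dvd_index_of_normal _ _
  have h5 := card_dvd_of_le (inf_le_left : (P : Subgroup G) ⊓ L ≤ P)
  rw [h16, ← h2] at h5
  rw [← h2] at h4 ⊢
  have := Nat.le_of_dvd (by norm_num) h3
  generalize (Ce v).relIndex T = n at *
  interval_cases n <;> simp at h3 h4 h5 ⊢

theorem kk_nine_core (hM : IsPModular 2 M) (P : Sylow 2 G) (hab : IsMulCommutative P)
    (hel : ∀ x ∈ (P : Subgroup G), x * x = 1) (h16 : Nat.card (P : Subgroup G) = 16)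
    (h9 : ee (P : Subgroup G) = 9) (hO : pPrimeCore 2 G = ⊥) : kk M G = 16 := by
  have hA := ab2_of_sylow P hab
  by_cases hE : layer G = ⊥
  · obtain ⟨Z, hZ, h4, hN⟩ := exists_four h16 h9
    have hn : (P : Subgroup G).Normal := sylow_eq_pCore hA hO hE P ▸ pCore_normal 2 G
    have : Z.Normal := normalizer_eq_top_iff.1 (eq_top_iff.2 (normalizer_eq_top (P : Subgroup G) ▸ hN))
    exact kk_nine_of_normal hM P hel h16 h9 Z hZ h4
  obtain ⟨L, hL⟩ := layer_ne_bot_iff.1 hE
  replace hL : IsComponent L := hL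
  have c4 := fun {X} (hX : IsComponent X) => comp_card_four (P := P) hA hO h16 h9 hX
  have d4 : ∀ {X}, IsComponent X → Nat.card ↥((P : Subgroup G) ⊓ Cz X) = 4 := fun hX => by
    have := comp_card_mul hA hO hX P
    rw [c4 hX, h16] at this
    exact Nat.eq_of_mul_eq_mul_left (by norm_num : 0 < 4) this
  have e4 : ∀ {X Y}, IsComponent X → IsComponent Y → X ≠ Y →
      (P : Subgroup G) ⊓ X = (P : Subgroup G) ⊓ Cz Y := fun hX hY hne => eq_of_le_of_card_le
    (inf_le_inf_left _ (comp_le_centralizer_of_ne hX hY hne)) (by rw [c4 hX, d4 hY])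
  by_cases h2 : ∃ L', IsComponent L' ∧ L' ≠ L
  · obtain ⟨L', hL', hne⟩ := h2
    have h1 : layer G = L ⊔ L' := by
      refine le_antisymm (layer_le_iff.2 fun X hX => ?_)
        (sup_le (comp_le_layer hL) (comp_le_layer hL'))
      by_contra h
      have a1 : X ≠ L := fun e => h (e ▸ le_sup_left)
      have a2 : X ≠ L' := fun e => h (e ▸ le_sup_right)
      have a3 : (P : Subgroup G) ⊓ L' ≤ ⊥ := by
        rw [← comp_inf_centralizer hA hO hL']
        exact le_inf inf_le_right (by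
          rw [e4 hL' hL hne, ← e4 hX hL a1, e4 hX hL' a2]; exact inf_le_right)
      have := c4 hL'
      rw [le_bot_iff.1 a3, card_bot] at this
      omega
    have hn : (L ⊔ L').Normal := h1 ▸ layer_normal
    have hP : (P : Subgroup G) ≤ L ⊔ L' := fun s hs => by
      obtain ⟨v, hv, z, hz, rfl⟩ := comp_exists_mul hA hO hL P hs
      exact mul_mem_sup hv.2 (e4 hL' hL hne ▸ hz : z ∈ (P : Subgroup G) ⊓ L').2
    have hLL := comp_le_centralizer_of_ne hL hL' hne.symm
    rw [kk_dade hM P (fun hd => P.not_dvd_index (hd.trans (index_dvd_of_le hP))) ?_,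
      kk_two_factors hM P hel h16 hP ?_ hLL (c4 hL) (c4 hL')]
    · rw [eq_bot_iff, ← comp_inf_centralizer hA hO hL', inf_comm]
      exact inf_le_inf_left _ hLL
    obtain ⟨v, hv, hv1, -⟩ := exists_ne_ne (c4 hL).ge 1 1
    obtain ⟨w, hw, hw1, -⟩ := exists_ne_ne (c4 hL').ge 1 1
    obtain ⟨y, hy, hyN, hyv⟩ := comp_exists_move hA hO hL P hv hv1
    obtain ⟨y', hy', hyN', hyw⟩ := comp_exists_move hA hO hL' P hw hw1
    set H := L ⊔ L' ⊔ Cz (P : Subgroup G)
    have hC : Cz (P : Subgroup G) ≤ Ce w ⊓ (H ⊓ Nz (P : Subgroup G)) :=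
      le_inf (Cz_le_Ce hw.1) (le_inf le_sup_right (centralizer_le_normalizer _))
    have a1 := relIndex_mul_relIndex _ _ _ hC inf_le_right
    have a2 := relIndex_mul_relIndex _ _ _ (hC.trans inf_le_right)
      (inf_le_right : H ⊓ Nz (P : Subgroup G) ≤ _)
    rw [← a1, ← ee, h9, inf_relIndex_right, inf_relIndex_right] at a2
    have a3 := mt relIndex_eq_one.1 fun h : Ce w ⊓ (H ⊓ Nz (P : Subgroup G)) ≤ Cz P =>
      hyv (by
        rw [← h ⟨mem_centralizer_singleton_iff.2 (hLL hy w hw.2).symm,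
          mem_sup_left (mem_sup_left hy), hyN⟩ v hv.1]; group)
    have a4 := mt relIndex_eq_one.1 fun h : H ⊓ Nz (P : Subgroup G) ≤ Ce w =>
      hyw (by
        rw [mem_centralizer_singleton_iff.1 (h ⟨mem_sup_left (mem_sup_right hy'), hyN'⟩)]; group)
    have a5 : H.relIndex (Nz (P : Subgroup G)) = 1 := by
      generalize H.relIndex (Nz (P : Subgroup G)) = c at *
      generalize (Ce w).relIndex (H ⊓ Nz (P : Subgroup G)) = b at *
      generalize (Cz (P : Subgroup G)).relIndex (Ce w ⊓ (H ⊓ Nz (P : Subgroup G))) = a at *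
      have b1 := Nat.le_of_dvd (by norm_num) (Dvd.intro_left _ a2)
      have b2 := Nat.le_of_dvd (by norm_num) ((Dvd.intro _ rfl).trans (Dvd.intro _ a2))
      have b3 := Nat.le_of_dvd (by norm_num) ((Dvd.intro_left _ rfl).trans (Dvd.intro _ a2))
      interval_cases a <;> interval_cases b <;> omega
    rw [eq_top_iff, ← frattini_sup P _ hP]
    exact sup_le le_sup_left (relIndex_eq_one.1 a5)
  push Not at h2
  have hn : L.Normal := (le_antisymm (layer_le_iff.2 fun X hX => (h2 X hX).le)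
    (comp_le_layer hL)) ▸ layer_normal
  have hC : (Cz L).Normal := normal_centralizer
  obtain ⟨Q, hQ⟩ := Transfer.exists_sylow_subgroupOf_normal P (Cz L)
  have h3 := sylow_eq_pCore (hA.of_injective _ (Cz L).subtype_injective)
    (core_comp hO hC.isSubnormal) (layer_eq_bot_iff.2 fun X hX => comp_not_le_centralizer hL
      ((h2 _ ((comp_map_subtype_iff hC.isSubnormal X).1 hX)).ge.trans (map_subtype_le _))) Q
  have h4 : ((P : Subgroup G) ⊓ Cz L).Normal := by
    rw [← subgroupOf_map_subtype, ← hQ, h3]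
    have := pCore_characteristic 2 (Cz L)
    infer_instance
  exact kk_nine_of_normal hM P hel h16 h9 _ inf_le_left (d4 hL)

theorem nine_main (hM : IsPModular 2 M) (P : Sylow 2 G) (hab : IsMulCommutative P)
    (hel : ∀ x ∈ (P : Subgroup G), x * x = 1) (h16 : Nat.card (P : Subgroup G) = 16)
    (h9 : ee (P : Subgroup G) = 9) : kk M G = 16 ∧ ll 2 M G = 9 := by
  classical
  have := pPrimeCore_normal 2 G
  let f := QuotientGroup.mk' (pPrimeCore 2 G)
  have hf : Function.Surjective f := QuotientGroup.mk'_surjective _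
  have hk : ¬ 2 ∣ Nat.card f.ker := by
    rw [QuotientGroup.ker_mk']; exact not_dvd_card_pPrimeCore Nat.prime_two G
  have h1 : kk M G = 16 := by
    rw [kk_quot hM f hf hk]
    refine kk_nine_core hM (P.mapSurjective hf) ((ab2_of_sylow P hab).of_surjective f hf _) ?_
      ((card_map_of_not_dvd f hk P.isPGroup').trans h16) ((ee_map f hf hk P.isPGroup').trans h9)
      (pPrimeCore_quotient_pPrimeCore 2 G)
    rintro _ ⟨x, hx, rfl⟩
    rw [← map_mul, hel x hx, map_one]
  refine ⟨h1, ?_⟩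
  have := Fintype.ofFinite (P : Subgroup G)
  have h2 := ee_mul_kk hM P hab
  obtain ⟨h3, h4⟩ := count_nine h16 ((card_range_eq_ee (P : Subgroup G)).trans h9)
  simp only [card_stabilizer_eq_eu] at h3 h4
  have h5 : ∀ u ∈ Finset.univ.erase (1 : (P : Subgroup G)), eu (P : Subgroup G) u *
      ll 2 M (Ce (u : G)) = eu (P : Subgroup G) u * eu (P : Subgroup G) u := fun u hu => by
    have hPC : (P : Subgroup G) ≤ Ce (u : G) := (le_Cz_of_comm hab).trans (Cz_le_Ce u.2)
    have hab' : IsMulCommutative (P.subtype hPC) := by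
      change IsMulCommutative ((P : Subgroup G).subgroupOf _)
      infer_instance
    have e1 : ee (P.subtype hPC : Subgroup (Ce (u : G))) = eu (P : Subgroup G) u :=
      ee_subgroupOf hPC
    rcases h3 u (Finset.mem_erase.1 hu).1 with e | e
    · rw [(ll_eq_one_iff hM).2 (Transfer.burnside_normal_complement (P.subtype hPC)
        (relIndex_eq_one.1 (e1.trans e))), e]
    · rw [(prime_main hM _ hab' (by rw [e1, e]; exact Nat.prime_three)).1, e1]
  rw [← Finset.add_sum_erase _ _ (Finset.mem_univ 1), Finset.sum_congr rfl h5, h4, h1,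
    OneMemClass.coe_one, eu_one, ll_Ce_one hM, h9] at h2
  omega

end Main

end CfsgLib.WAb
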