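import Mathlib
import Cfsg.Agent.Lib.EL.JT
import Cfsg.Agent.Lib.Ward.Blk
import Cfsg.Agent.Lib.Block.Real
import Cfsg.Agent.Lib.Block.Klein
import Cfsg.Agent.Lib.SL2.PSL
import Cfsg.Agent.Lib.PF.S1_Tail
import Cfsg.Agent.Lib.WCor.In
import Cfsg.Agent.Lib.Blk.Reg

/-! Real characters of simple groups with abelian Sylow 2-subgroups: a real character of even
degree, and a second real character of odd degree in the principal 2-block of any group of even
order. -/

set_option autoImplicit false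

namespace CfsgLib.WAb

open Subgroup Cfsg CfsgLib.BG CfsgLib.PF CfsgLib.BSW CfsgLib.Block CfsgLib.Char CfsgLib.SL2
open CfsgLib.Ward CfsgLib.Abel2 Matrix MatrixGroups
open scoped ComplexConjugate

/-- a real irreducible character of degree `n` -/
def RealDeg (G : Type*) [Group G] (n : ℕ) : Prop :=
  ∃ χ : G → ℂ, IsIrrCharacter G χ ∧ (∀ g, conj (χ g) = χ g) ∧ χ 1 = n

theorem RealDeg.of_equiv {G H : Type*} [Group G] [Group H] (e : G ≃* H) {n : ℕ}
    (h : RealDeg H n) : RealDeg G n := by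
  obtain ⟨χ, h1, h2, h3⟩ := h
  exact ⟨fun g => χ (e g), isIrr_comp_mulEquiv e h1, fun g => h2 _, by simpa using h3⟩

section PSL

variable {F : Type*} [Field F] [Fintype F]

theorem realDeg_psl {χ : SL(2, F) → ℂ} (hχ : IsIrrCharacter _ χ) (h : χ (-1) = χ 1)
    (hr : ∀ g, conj (χ g) = χ g) {n : ℕ} (hn : χ 1 = n) : RealDeg PSL(2, F) n := by
  obtain ⟨ψ, hψ, e⟩ := exists_irr_comp_eq pm pm_surjective hχ fun g hg => by
    rcases (isScal_iff g).1 (pm_eq_one_iff.1 hg) with rfl | rfl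
    exacts [rfl, h]
  refine ⟨ψ, hψ, fun g => ?_, by rw [← hn, ← e, map_one]⟩
  obtain ⟨g, rfl⟩ := pm_surjective g
  rw [e, hr]

variable [DecidableEq F]

theorem isClassFunction_conj {G : Type*} [Group G] {f : G → ℂ} (hf : IsClassFunction G f) :
    IsClassFunction G fun g => conj (f g) := fun x g => congrArg conj (hf x g)

theorem conj_lin_of_sq (α : Fˣ →* ℂˣ) {a : Fˣ} (ha : (a : F) ^ 2 = 1) :
    conj (lin α a) = lin α a := by
  rw [conj_lin, (inv_eq_self_iff_sq a).2 ((units_sq_eq_one_iff a).2 ha)]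

theorem conj_prin (α : Fˣ →* ℂˣ) (g : SL(2, F)) : conj (prin α g) = prin α g := by
  refine congrFun (classFun_ext_types (isClassFunction_conj (isClassFunction_prin α))
    (isClassFunction_prin α) (fun a b => ?_) fun g hg => by simp [prin_noEig α hg]) g
  by_cases ha : (a : F) ^ 2 = 1
  · by_cases hb : b = 0
    · rw [hb, uu_zero, mul_one, prin_scal α ha]
      simp [conj_lin_of_sq α ha]
    · rw [prin_unip α ha hb, conj_lin_of_sq α ha]
  · rw [prin_split α ha, map_add, conj_lin, conj_lin, inv_inv, add_comm]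

theorem conj_cusp {d : SL(2, F)} (hd : NoEig d) (θ : Tor d →* ℂˣ) (g : SL(2, F)) :
    conj (cusp θ g) = cusp θ g := by
  refine congrFun (classFun_ext_tor hd (isClassFunction_conj (isClassFunction_cusp θ))
    (isClassFunction_cusp θ) (fun a b => ?_) fun c hc => ?_) g
  · rw [cusp_apply, indT]
    by_cases ha : (a : F) ^ 2 = 1
    · have hz : IsScal (dg a) := (isScal_iff_dg _).2 ⟨a, ha, rfl⟩
      have h1 := tor_inv_of_scal (c := ⟨_, hz.mem_tor d⟩) hz
      rw [← indT, ← cusp_apply]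
      by_cases hb : b = 0
      · rw [hb, uu_zero, mul_one]
        have := cusp_scal hd θ (z := ⟨_, hz.mem_tor d⟩) hz
        simp only at this
        rw [this, map_mul, conj_lin, h1]
        simp
      · have := cusp_unip hd θ (z := ⟨_, hz.mem_tor d⟩) hz hb
        simp only at this
        rw [this, map_neg, conj_lin, h1]
    · rw [← indT, ← cusp_apply, cusp_split hd θ ha, map_zero]
  · rw [cusp_tor hd θ hc, map_neg, map_add, conj_lin, conj_lin, inv_inv, add_comm]

omit [DecidableEq F] in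
theorem realDeg_card : RealDeg PSL(2, F) (Fintype.card F) := by
  classical
  exact realDeg_psl isIrr_stein (stein_neg 1) conj_stein stein_one

omit [DecidableEq F] in
theorem realDeg_four (h3 : 3 < Fintype.card F)
    (h8 : Fintype.card F % 8 = 3 ∨ Fintype.card F % 8 = 5) :
    ∃ n, 4 ∣ n ∧ RealDeg PSL(2, F) n := by
  classical
  rcases h8 with h8 | h8
  · obtain ⟨α, h1, h2⟩ := exists_dual_sq (A := Fˣ) (by
      rw [card_units_eq, Nat.odd_iff]; omega) (z := -1) (by simp)
    exact ⟨Fintype.card F + 1, by omega, realDeg_psl ((isIrr_prin_iff α).2 h1)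
      (by rw [prin_neg, h2, one_mul]) (conj_prin α) (by rw [prin_one]; push_cast; rfl)⟩
  · obtain ⟨d, hd⟩ := exists_noEig (F := F)
    have := hd.isCyclic_centralizer
    obtain ⟨α, h1, h2⟩ := exists_dual_sq (A := Tor d) (by
      rw [hd.card_centralizer]; omega) (negT_mul_self d)
    exact ⟨Fintype.card F - 1, by omega, realDeg_psl (isIrr_cusp hd h1)
      (by rw [cusp_neg hd, h2, one_mul]) (conj_cusp hd α)
      (by rw [cusp_one hd, Nat.cast_sub Fintype.card_pos, Nat.cast_one])⟩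

end PSL

section JR

variable {G L : Type*} [Group G] [Finite G] [Group L] [Finite L] {t : G} {ι : L →* G}
  {s w : L} {K : Subgroup L} {M : ℤ} {σ : Dual K} {ψ : Fin 4 → L → ℂ} {I : Ideal AlgInt}

theorem b0_orth (h : Frame t ι) (T : Tab s w K M σ ψ) (hI : IsPModular 2 I) {χ : G → ℂ}
    (hi : IsIrr ⊤ χ) (hb : (⟨χ, isIrr_top.1 hi⟩ : IrrCharacter G) ∈ principalBlock I G)
    {g : L → ℂ} (hg : g ∈ CF (⊤ : Subgroup L)) (he : Ev g) (hj : ∀ j, dot ⊤ g (ψ j) = 0) :
    dot ⊤ (Th t ι g) χ = 0 := by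
  classical
  have := Fintype.ofFinite ↥𝒞[t]
  let P := extendByZero 𝒞[t] (blockPart (principalBlock I ↥𝒞[t]) fun c : ↥𝒞[t] => χ c)
  have h1 : ∀ u, Odd (orderOf u) → sec t ι P u = blockPart (principalBlock I G) χ (t * ι u) :=
    fun u hu => ((blockPart_principal_eq hI (mem_CF_top.1 hi.mem_CF) ⟨_, h.mem_t u⟩
      (isPPart_mul (h.comm u).symm ⟨1, by rw [h.t_ord, pow_one]⟩
        (by rw [h.ord]; exact hu.not_two_dvd_nat))).trans
      (extendByZero_coe' _ _ ⟨_, h.mem_t u⟩).symm).symm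
  have h2 : ∀ ξ (hξ : IsIrr 𝒞[t] ξ), dot 𝒞[t] P ξ =
      if (⟨_, hξ.2⟩ : IrrCharacter ↥𝒞[t]) ∈ principalBlock I ↥𝒞[t] then dot 𝒞[t] χ ξ else 0 :=
    fun ξ hξ => by
      rw [dot_eq_classInner, dot_eq_classInner, res_extendByZero]
      convert classInner_blockPart _ _ (⟨_, hξ.2⟩ : IrrCharacter ↥𝒞[t])
  rw [h.dot_Th g hi.mem_CF,
    dot_congr_on (A := {u | Odd (orderOf u)}) (ψ := sec t ι χ) (ψ' := sec t ι P)
    (fun u hu => he u (Nat.not_odd_iff_even.1 hu)) fun u _ hu =>
      ((h1 u hu).trans (congrFun (blockPart_irr_of_mem hb) _)).symm, ← h.dot_lift]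
  by_contra e
  obtain ⟨ξ, hξ, e1, e2⟩ := exists_constt_of_dot_ne_zero (h.lift_mem_CF hg) e
  obtain ⟨j, e3⟩ := h.of_mem_b0 T hI hξ (by_contra fun hn => e2 (by rw [h2 ξ hξ, if_neg hn]))
  rw [h.dot_lift] at e1
  rcases e3 with e3 | e3 <;> simp [e3, dot_neg_right, hj] at e1

theorem realDeg_jr (h : Frame t ι) (T : Tab s w K M σ ψ) {n : ℕ} (hn : 4 ∣ n) (hr : RealDeg L n) :
    ∃ m, Even m ∧ RealDeg G m := by
  obtain ⟨f, hf, hfr, hf1⟩ := hr
  have hf' : IsIrr ⊤ f := isIrr_top.2 hf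
  have hd : IsDirr ⊤ f := Or.inl hf'
  have hM := T.mod
  obtain ⟨k, rfl⟩ := hn
  have hψ : ∀ j, f ≠ ψ j ∧ f ≠ -ψ j := fun j => by
    have : ∃ a : ℤ, Odd a ∧ ψ j 1 = a := by
      fin_cases j
      · exact ⟨1, odd_one, by simp [T.zero, cf1_top]⟩
      · exact ⟨-M, by rw [Int.odd_iff]; omega, by simpa using T.deg1⟩
      · exact ⟨-M, by rw [Int.odd_iff]; omega, by simpa using T.deg2⟩
      · exact ⟨2 * M - 1, by rw [Int.odd_iff]; omega, by simpa using T.deg3⟩
    obtain ⟨a, ha, e⟩ := this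
    rw [Int.odd_iff] at ha
    constructor <;> rintro rfl
    · have : a = 4 * k := by exact_mod_cast e.symm.trans hf1
      omega
    · rw [Pi.neg_apply, e] at hf1
      have : -a = 4 * k := by exact_mod_cast hf1
      omega
  have he : Ev f := by
    rcases T.dirr_cases hd with ⟨j, e⟩ | ⟨μ, -, e⟩ | e
    · exact absurd e (not_or.2 (hψ j))
    · exfalso
      have h1 := T.Xc_one μ
      rcases e with rfl | rfl
      · have : 2 * M = 4 * k := by exact_mod_cast h1.symm.trans hf1
        omega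
      · rw [Pi.neg_apply, h1] at hf1
        have : -(2 * M) = 4 * k := by exact_mod_cast hf1
        omega
    · exact T.ev_of hf'.mem_CF fun a ha h1 _ => e a ha h1
  have h2 := h.dot_Th_Th he hf'.mem_CF he
  rw [hf'.dot_self, mul_one] at h2
  obtain ⟨a, b, ha, hb, hab, e⟩ := (h.Th_vchar hf'.isVChar).exists_sub_of_norm_two h2 (h.Th_one f)
  have h3 : dot ⊤ (Th t ι f) a = 1 := by
    rw [e, dot_sub_left, ha.dot_self, hb.dot_of_ne ha hab.symm, sub_zero]
  have h4 : dot ⊤ (Th t ι f) (conjFun a) = 1 := by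
    rw [h.dot_Th _ ha.conj.mem_CF, show sec t ι (conjFun a) = conjFun (sec t ι a) from rfl,
      dot_conjFun_right, show conjFun f = f from funext hfr, ← dot_conj_symm,
      ← h.dot_Th _ ha.mem_CF, h3, map_one]
  have h5 : conjFun a = a := by
    by_contra hne
    classical
    rw [e, dot_sub_left, ha.dot_of_ne ha.conj (Ne.symm hne), hb.dot_eq ha.conj] at h4
    split_ifs at h4 <;> norm_num at h4
  have ha' := isIrr_top.1 ha
  refine ⟨charDegree a, ?_, a, ha', congrFun h5, (charDegree_eq (isCharacter_of_isIrr ha')).symm⟩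
  by_contra ho
  obtain ⟨I, hI⟩ := exists_isPModular' Nat.prime_two
  have h6 := mem_principalBlock_of_real_of_odd hI (χ := ⟨a, ha'⟩)
    (Subtype.ext (funext fun g => (irrBar_apply' _ g).trans (congrFun h5 g)))
    fun h => ho (even_iff_two_dvd.2 h)
  rw [b0_orth h T hI ha h6 hf'.mem_CF he fun j => by_contra fun hn =>
    not_or.2 (hψ j) (hd.eq_or_eq_neg (T.dirr j) hn)] at h3
  exact zero_ne_one h3

end JR

universe u

/-- A nonabelian simple group with abelian Sylow 2-subgroups has a real irreducible character of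
even degree. -/
theorem exists_realDeg_even {G : Type u} [Group G] [Finite G] (hs : IsSimpleGroup G)
    (hn : ¬ IsMulCommutative G) (hab : Ab2 G) : ∃ m, Even m ∧ RealDeg G m := by
  classical
  rcases classify WCor.inputs hs hn hab with h | h | h
  · obtain ⟨a, ha, F, _, _, hF, ⟨e⟩⟩ := WCor.pslEven_pow h
    exact ⟨_, by rw [hF, Nat.even_pow]; exact ⟨even_two, by omega⟩, realDeg_card.of_equiv e⟩
  · obtain ⟨F, _, _, h1, h2, ⟨e⟩⟩ := Gold.Cor.pslOdd_mod hab h
    obtain ⟨n, h3, h4⟩ := realDeg_four (by omega) h2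
    exact ⟨n, even_iff_two_dvd.2 (dvd_trans (by norm_num) h3), h4.of_equiv e⟩
  · obtain ⟨F, _, _, t, ι, h, h3, h8⟩ := EL.exists_frame EL.reeD EL.jOrd h
    obtain ⟨s, w, K, M, σ, ψ, T, -⟩ := exists_tab h8
    obtain ⟨n, h3, h4⟩ := realDeg_four h3 h8
    exact realDeg_jr h T h3 h4

/-- The principal 2-block of a group of even order contains a second real character of odd
degree. -/
theorem exists_real_odd_b0 {G : Type*} [Group G] [Finite G] {M : Ideal AlgInt}
    (hM : IsPModular 2 M) {t : G} (ht : orderOf t = 2) : ∃ χ ∈ principalBlock M G,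
      χ ≠ irrOne G ∧ irrBar χ = χ ∧ Odd (charDegree (χ : G → ℂ)) := by
  classical
  have := Fintype.ofFinite G
  have htt : t * t = 1 := by rw [← sq, ← ht, pow_orderOf_eq_one]
  have h1 : ∀ χ : IrrCharacter G, ∃ v : ℤ, (χ : G → ℂ) t = v ∧
      (v : ZMod 2) = charDegree (χ : G → ℂ) := fun χ => by
    have hχ := isCharacter_of_isIrr χ.2
    obtain ⟨v, hv⟩ := exists_int_of_pow_eq (isGenChar_of_isCharacter hχ) t fun k hk => by
      rw [← pow_mod_orderOf, ht, Nat.odd_iff.1 (Nat.coprime_two_right.1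
        (hk.coprime_dvd_right (ht ▸ orderOf_dvd_natCard t))), pow_one]
    have h2 := card_dvd_charDegree_sub hχ (zpowers t) (n := v) fun x hx h1 => by
      rw [((cx_mem_zpowers' htt).1 hx).resolve_left h1, hv]
    rw [Nat.card_zpowers, ht] at h2
    exact ⟨v, hv, by exact_mod_cast (ZMod.intCast_eq_intCast_iff_dvd_sub v _ 2).2 h2⟩
  choose v hv hv2 using h1
  have h2 := weak_block_orth hM (isPBlock_principalBlock (G := G)) (x := 1) (y := t) (by simp)
    (by rw [ht])
  rw [Blk.finsum_bf] at h2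
  have h3 : ∑ χ ∈ Blk.bf (principalBlock M G), (charDegree (χ : G → ℂ) : ℤ) * v χ = 0 := by
    have : ((∑ χ ∈ Blk.bf (principalBlock M G), (charDegree (χ : G → ℂ) : ℤ) * v χ : ℤ) : ℂ) =
        0 := by
      rw [← h2]
      push_cast
      exact Finset.sum_congr rfl fun χ _ => by
        rw [hv, charDegree_eq (isCharacter_of_isIrr χ.2)]; simp
    exact_mod_cast this
  have h4 : ∑ χ ∈ Blk.bf (principalBlock M G), (charDegree (χ : G → ℂ) : ZMod 2) = 0 := by
    have := congrArg (Int.cast : ℤ → ZMod 2) h3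
    push_cast at this
    rw [← this]
    exact Finset.sum_congr rfl fun χ _ => by
      rw [hv2]; generalize (charDegree (χ : G → ℂ) : ZMod 2) = z; revert z; decide
  by_contra hn
  push Not at hn
  have hone := Blk.mem_bf.2 (irrOne_mem_principalBlock (G := G) hM)
  have hd : ∀ χ : IrrCharacter G, charDegree (irrBar χ : G → ℂ) = charDegree (χ : G → ℂ) :=
    fun χ => by rw [charDegree, charDegree, irrBar_one]
  rw [← Finset.add_sum_erase _ _ hone, Finset.sum_involution (fun χ _ => irrBar χ)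
    (fun χ _ => by rw [hd]; exact CharTwo.add_self_eq_zero _)
    (fun χ hχ h0 e => hn χ (Blk.mem_bf.1 (Finset.mem_erase.1 hχ).2) (Finset.mem_erase.1 hχ).1 e
      (by rwa [Ne, ZMod.natCast_eq_zero_iff_even, Nat.not_even_iff_odd] at h0))
    (fun χ hχ => Finset.mem_erase.2 ⟨fun e => (Finset.mem_erase.1 hχ).1 (by
      rw [← irrBar_irrBar χ, e, irrBar_irrOne]), Blk.mem_bf.2 (irrBar_mem_principalBlock
        (Blk.mem_bf.1 (Finset.mem_erase.1 hχ).2))⟩) fun χ _ => irrBar_irrBar χ,
    charDegree_of_eq (n := 1) (by simp [irrOne])] at h4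
  simp at h4

end CfsgLib.WAb
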